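import Cfsg.Agent.Lib.Spor.HN.TopIndex.Part0
import Cfsg.Agent.Lib.Spor.HN.TopIndex.Part1
import Cfsg.Agent.Lib.Spor.HN.TopIndex.Part2

/-!
The index of ⟨x, y⟩ in ⟨x, y, z⟩ modulo its centre: the assembled checks.
-/

set_option autoImplicit false

namespace CfsgLib.Spor.HN.TopIndex

open CfsgLib.Spor.TC

theorem steps_ok : cert.SStepsOK 0 17273 :=
  ((((steps0.append _ steps3632).append _ steps7400).append _ steps10844).append _ steps14531)

theorem rows_ok : cert.SRowsOK 17273 352 0 352 :=
  rows0

theorem row_zero : cert.rowNode 0 = 0 := by decide +kernel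

end CfsgLib.Spor.HN.TopIndex
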